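import Groth.Agent.Deform.K103.T1Piece

/-! # Piece (G): `K694.Iface.GlueT1` -/

set_option autoImplicit false
universe u
open CategoryTheory CategoryTheory.Limits AlgebraicGeometry TopologicalSpace Opposite

namespace K103.T1

open Groth.Agent.Lefpen.H721.OmegaSec K694.Iface

section sys

variable {A' A : Type u} [CommRing A'] [CommRing A] (d : Dat A' A) {Y : Scheme.{u}}
  (f : Y ⟶ Spec (CommRingCat.of A))

/-- A compatible system of twisted derivations. -/
structure Sys where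
  J : Set Y.Opens
  inter : ∀ V ∈ J, ∀ W ∈ J, ∀ x, x ∈ V → x ∈ W → ∃ U ∈ J, U ≤ V ∧ U ≤ W ∧ x ∈ U
  cover : ∀ x : Y, ∃ V ∈ J, x ∈ V
  aff : ∀ V ∈ J, IsAffineOpen V
  t : ∀ V : J, d.TD (SA f V.1)
  κ : ∀ {V W : J}, V ≤ W → Derivation A (SA f V.1) (SA f V.1)
  H : ∀ {V W : J} (e : V ≤ W) (x y), (t W).D x = Ideal.Quotient.mk _ y →
    (t V).D (resA f e x) = Ideal.Quotient.mk _ (resA f e y + κ e (resA f e x))
  κ_self : ∀ (V : J) x, κ (le_refl V) x = 0
  κ_comp : ∀ {U V W : J} (e : U ≤ V) (e' : V ≤ W) (x),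
    resA f e (κ e' x) + κ e (resA f e x) = κ (e.trans e') (resA f e x)

variable {d f}

theorem resA_self {V : Y.Opens} (h : V ≤ V) (x : SA f V) : resA f h x = x := by
  rw [resA_apply]
  have : (homOfLE h).op = 𝟙 _ := rfl
  rw [this]
  exact congrArg (fun φ => φ.hom x) (Y.presheaf.map_id _)

/-- The system of thickenings. -/
noncomputable def Sys.th (S : Sys d f) [Smooth f] : K679.ThSys Y where
  J := S.J
  inter := S.inter
  cover := S.cover
  obj V := P f (S.t V)
  inc V := inc f (S.t V)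
  cl V := isClosedImmersion_inc f (S.aff _ V.2) _
  su V := surjective_inc f (S.aff _ V.2) _
  tr {V W} e := trS f e (S.t V) (S.t W) (S.κ e) (S.H e)
  oi {V W} e := isOpenImmersion_trS f e (S.t V) (S.t W) (S.κ e) (S.H e) (S.aff _ V.2) (S.aff _ W.2)
  inc_tr {V W} e := inc_trS f e (S.t V) (S.t W) (S.κ e) (S.H e)
  tr_self V := by
    rw [trS, Dat.TD.tr_id (resA f (le_refl V.1)) (resA_self _) _ (S.κ_self V)]
    exact Spec.map_id _
  tr_tr {U V W} e e' := by
    rw [trS, trS, trS, ← Spec.map_comp, ← CommRingCat.ofHom_comp]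
    congr 2
    exact Dat.TD.tr_comp _ _ _ _ _ _ _ _ _ (fun x => resA_resA f _ _ x) (S.κ_comp e e')

theorem Sys.lift (S : Sys d f) [Smooth f] :
    ∃ (Y' : Scheme.{u}) (f' : Y' ⟶ Spec (CommRingCat.of A')) (h : Y ⟶ Y'),
      Flat f' ∧ IsPullback h f f' (Spec.map (CommRingCat.ofHom d.π)) := by
  obtain ⟨f', hf'⟩ := S.th.exists_desc (fun V => str f (S.t V)) fun {V W} e =>
    trS_str f e (S.t V) (S.t W) (S.κ e) (S.H e)
  refine ⟨S.th.glued, f', S.th.i, ?_, ?_⟩
  · rw [IsZariskiLocalAtSource.iff_of_openCover (P := @Flat) S.th.cov]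
    intro V
    have h1 : S.th.cov.f V ≫ f' = str f (S.t V) := hf' V
    rw [h1]
    exact flat_str f (S.aff _ V.2) _
  · refine Groth.Agent.CalgA.TwoGlue.isPullback_of_cover ?_ S.th.cov (fun V => V.1.toScheme) (fun V => V.1.ι)
      (fun V => inc f (S.t V)) (fun V => (S.th.isPullback_i V).flip) fun V => ?_
    · have key : ∀ V : S.J, V.1.ι ≫ S.th.i ≫ f' = V.1.ι ≫ f ≫ Spec.map (CommRingCat.ofHom d.π) := by
        intro V
        have h1 : V.1.ι ≫ S.th.i = inc f (S.t V) ≫ S.th.ι V := S.th.ι_i V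
        have h2 : S.th.ι V ≫ f' = str f (S.t V) := hf' V
        have e1 : V.1.ι ≫ S.th.i ≫ f' = inc f (S.t V) ≫ str f (S.t V) := by
          refine (Category.assoc _ _ _).symm.trans ?_
          refine (congrArg (fun φ => φ ≫ f') h1).trans ?_
          refine (Category.assoc _ _ _).trans ?_
          exact congrArg (fun φ => inc f (S.t V) ≫ φ) h2
        rw [e1, (isPullback_inc f (S.aff _ V.2) (S.t V)).w, Category.assoc]
      refine Scheme.hom_ext_of_forall _ _ fun x => ?_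
      obtain ⟨V, hV, hx⟩ := S.cover x
      exact ⟨V, hx, key ⟨V, hV⟩⟩
    · have h1 : S.th.cov.f V ≫ f' = str f (S.t V) := hf' V
      rw [h1]
      exact isPullback_inc f (S.aff _ V.2) (S.t V)

end sys

section td

variable {A' A : Type u} [CommRing A'] [CommRing A] (d : Dat A' A)

theorem exists_td {B : Type u} [CommRing B] [Algebra A B] (h : (algebraMap A B).Smooth) : Nonempty (d.TD B) := by
  have : Algebra.Smooth A B := RingHom.smooth_algebraMap.1 h
  let s : A → A' := Function.surjInv d.hπ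
  have hs : ∀ a, d.π (s a) = a := Function.surjInv_eq d.hπ
  let m : A → B ⧸ d.KB B := fun a => Ideal.Quotient.mk _ (algebraMap A B a)
  have hm : ∀ a ∈ d.K, m a = 0 := fun a ha => Ideal.Quotient.eq_zero_iff_mem.2 (Ideal.mem_map_of_mem _ ha)
  have hm2 : ∀ a b, a - b ∈ d.K → m a = m b := by
    intro a b hab
    have := hm _ hab
    simp only [m] at this ⊢
    rw [map_sub, map_sub, sub_eq_zero] at this
    exact this
  have hδ : ∀ x y, d.π x = d.π y → m (d.δ x) = m (d.δ y) := by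
    intro x y hxy
    refine hm2 _ _ ?_
    rw [← map_sub]
    exact d.mem _ (by rw [map_sub, hxy, sub_self])
  let D0 : A →+ B ⧸ d.KB B := AddMonoidHom.mk' (fun a => m (d.δ (s a))) fun a b => by
    have h1 := hδ (s (a + b)) (s a + s b) (by rw [hs, map_add, hs, hs])
    refine h1.trans ?_
    simp only [m]
    rw [map_add, map_add, map_add]
  have hD0 : Leib (algebraMap A B) D0 := by
    intro a b
    have h1 := hδ (s (a * b)) (s a * s b) (by rw [hs, map_mul, hs, hs])
    refine h1.trans ?_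
    rw [d.leib, hs, hs]
    simp only [m]
    rw [map_add, map_add, map_mul, map_mul, map_mul, map_mul]
    rfl
  obtain ⟨D', h1, h2⟩ := exists_leib D0 hD0
  exact ⟨⟨D', h1, fun x => by
    rw [h2]
    exact hδ _ _ (hs _)⟩⟩

end td

section coc

variable {A : Type u} [CommRing A] {Y : Scheme.{u}} (f : Y ⟶ Spec (CommRingCat.of A)) (K : Ideal A)

/-- Restriction of derivations modulo `K`. -/
def R1 {V V' : Y.Opens} (h : V' ≤ V) (D : SA f V →+ SA f V ⧸ KS f K V) (D' : SA f V' →+ SA f V' ⧸ KS f K V') : Prop :=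
  ∀ x, D' (resA f h x) = q f K h (D x)

variable {f K}

theorem R1.sub {V V' : Y.Opens} {h : V' ≤ V} {D E : SA f V →+ SA f V ⧸ KS f K V}
    {D' E' : SA f V' →+ SA f V' ⧸ KS f K V'} (h1 : R1 f K h D D') (h2 : R1 f K h E E') :
    R1 f K h (D - E) (D' - E') := fun x => by
  rw [AddMonoidHom.sub_apply, AddMonoidHom.sub_apply, map_sub, h1, h2]

theorem R1.add {V V' : Y.Opens} {h : V' ≤ V} {D E : SA f V →+ SA f V ⧸ KS f K V}
    {D' E' : SA f V' →+ SA f V' ⧸ KS f K V'} (h1 : R1 f K h D D') (h2 : R1 f K h E E') :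
    R1 f K h (D + E) (D' + E') := fun x => by
  rw [AddMonoidHom.add_apply, AddMonoidHom.add_apply, map_add, h1, h2]

theorem R1.trans {V V' V'' : Y.Opens} {h : V' ≤ V} {h' : V'' ≤ V'} {D : SA f V →+ SA f V ⧸ KS f K V}
    {D' : SA f V' →+ SA f V' ⧸ KS f K V'} {D'' : SA f V'' →+ SA f V'' ⧸ KS f K V''} (h1 : R1 f K h D D')
    (h2 : R1 f K h' D' D'') : R1 f K (h'.trans h) D D'' := fun x => by
  rw [← resA_resA f h h', h2, h1, q_q]

theorem leib_sub {B M : Type u} [CommRing B] [AddCommGroup M] [Module B M] {D E : B →+ M}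
    (h1 : Leib (RingHom.id B) D) (h2 : Leib (RingHom.id B) E) : Leib (RingHom.id B) (D - E) := fun a b => by
  rw [AddMonoidHom.sub_apply, AddMonoidHom.sub_apply, AddMonoidHom.sub_apply, h1, h2, smul_sub, smul_sub]
  abel

theorem leib_add {B M : Type u} [CommRing B] [AddCommGroup M] [Module B M] {D E : B →+ M}
    (h1 : Leib (RingHom.id B) D) (h2 : Leib (RingHom.id B) E) : Leib (RingHom.id B) (D + E) := fun a b => by
  rw [AddMonoidHom.add_apply, AddMonoidHom.add_apply, AddMonoidHom.add_apply, h1, h2, smul_add, smul_add]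
  abel

theorem R1.exists {V V' : Y.Opens} (hV : IsAffineOpen V) (hV' : IsAffineOpen V') (h : V' ≤ V)
    (D : SA f V →+ SA f V ⧸ KS f K V) (hD : Leib (RingHom.id _) D) :
    ∃ D' : SA f V' →+ SA f V' ⧸ KS f K V', Leib (RingHom.id _) D' ∧ R1 f K h D D' :=
  exists_ext f hV hV' h (q f K h).toAddMonoidHom (q_smul f K h) D hD

theorem R1.unique {V V' : Y.Opens} (hV : IsAffineOpen V) (hV' : IsAffineOpen V') {h : V' ≤ V}
    {D : SA f V →+ SA f V ⧸ KS f K V} {D₁ D₂ : SA f V' →+ SA f V' ⧸ KS f K V'}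
    (l1 : Leib (RingHom.id _) D₁) (l2 : Leib (RingHom.id _) D₂) (h1 : R1 f K h D D₁) (h2 : R1 f K h D D₂) :
    D₁ = D₂ :=
  ext_unique f hV hV' h l1 l2 fun x => by rw [h1, h2]

theorem R1.cancel {V V' V'' : Y.Opens} (hV : IsAffineOpen V) (hV' : IsAffineOpen V') (hV'' : IsAffineOpen V'')
    {h : V' ≤ V} {h' : V'' ≤ V'} {D : SA f V →+ SA f V ⧸ KS f K V}
    {D' : SA f V' →+ SA f V' ⧸ KS f K V'} {D'' : SA f V'' →+ SA f V'' ⧸ KS f K V''}
    (l1 : Leib (RingHom.id _) D') (l2 : Leib (RingHom.id _) D'') (h1 : R1 f K h D D')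
    (h2 : R1 f K (h'.trans h) D D'') : R1 f K h' D' D'' := by
  obtain ⟨G, hG, hG'⟩ := R1.exists hV' hV'' h' D' l1
  have := R1.unique hV hV'' hG l2 (h1.trans hG') h2
  rwa [← this]

/-- Restriction of derivations. -/
theorem R0.trans {V V' V'' : Y.Opens} {h : V' ≤ V} {h' : V'' ≤ V'} {D : Derivation A (SA f V) (SA f V)}
    {D' : Derivation A (SA f V') (SA f V')} {D'' : Derivation A (SA f V'') (SA f V'')} (h1 : Ext0 f h D D')
    (h2 : Ext0 f h' D' D'') : Ext0 f (h'.trans h) D D'' := fun x => by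
  rw [← resA_resA f h h', h2, h1, resA_resA]

theorem R0.unique {V V' : Y.Opens} (hV : IsAffineOpen V) (hV' : IsAffineOpen V') {h : V' ≤ V}
    {D : Derivation A (SA f V) (SA f V)} {D₁ D₂ : Derivation A (SA f V') (SA f V')}
    (h1 : Ext0 f h D D₁) (h2 : Ext0 f h D D₂) : D₁ = D₂ :=
  der0_unique f hV hV' h fun x => by rw [h1, h2]

theorem R0.cancel {V V' V'' : Y.Opens} (hV : IsAffineOpen V) (hV' : IsAffineOpen V') (hV'' : IsAffineOpen V'')
    {h : V' ≤ V} {h' : V'' ≤ V'} {D : Derivation A (SA f V) (SA f V)}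
    {D' : Derivation A (SA f V') (SA f V')} {D'' : Derivation A (SA f V'') (SA f V'')}
    (h1 : Ext0 f h D D') (h2 : Ext0 f (h'.trans h) D D'') : Ext0 f h' D' D'' := by
  obtain ⟨G, hG⟩ := exists_der0 f hV' hV'' h' D'
  have := R0.unique hV hV'' (R0.trans h1 hG) h2
  rwa [← this]

/-- The reduction modulo `K` of a derivation. -/
noncomputable def md {V : Y.Opens} (D : Derivation A (SA f V) (SA f V)) : SA f V →+ SA f V ⧸ KS f K V :=
  (Ideal.Quotient.mk (KS f K V)).toAddMonoidHom.comp (D : SA f V →ₗ[A] SA f V).toAddMonoidHom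

theorem leib_md {V : Y.Opens} (D : Derivation A (SA f V) (SA f V)) : Leib (RingHom.id _) (md (K := K) D) := by
  intro a b
  change Ideal.Quotient.mk (KS f K V) (D (a * b)) = _
  rw [D.leibniz, map_add]
  rfl

theorem R1_md {V V' : Y.Opens} {h : V' ≤ V} {D : Derivation A (SA f V) (SA f V)}
    {D' : Derivation A (SA f V') (SA f V')} (h1 : Ext0 f h D D') : R1 f K h (md D) (md D') := fun x => by
  change Ideal.Quotient.mk _ (D' (resA f h x)) = _
  rw [h1]
  rfl

/-- The additive map underlying a derivation. -/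
noncomputable abbrev ad {V : Y.Opens} (D : Derivation A (SA f V) (SA f V ⧸ KS f K V)) :
    SA f V →+ SA f V ⧸ KS f K V := (D : SA f V →ₗ[A] _).toAddMonoidHom

end coc

section main

variable {A' A : Type u} [CommRing A'] [CommRing A] (d : Dat A' A) {Y : Scheme.{u}}
  (f : Y ⟶ Spec (CommRingCat.of A)) [Smooth f] {ι : Type} (W : ι → Y.Opens)

theorem exists_sys (hW : ∀ i, IsAffineOpen (W i)) (hW2 : ∀ i j, IsAffineOpen (W i ⊓ W j))
    (hW3 : ∀ i j l, IsAffineOpen (W i ⊓ W j ⊓ W l)) (hcov : ⨆ i, W i = ⊤) (hL : LiftsCoc f d.K W) :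
    Nonempty (Sys d f) := by
  classical
  have T0 : ∀ i, d.TD (SA f (W i)) := fun i => (exists_td d (smooth_sec f (hW i))).some
  -- restrictions of the twisted derivations
  choose F hFl hF using fun (i : ι) (V : Y.Opens) (hV : IsAffineOpen V) (h : V ≤ W i) =>
    R1.exists (f := f) (K := d.K) (hW i) hV h (T0 i).D (T0 i).leib
  have hFF : ∀ (i : ι) (V V' : Y.Opens) (hV : IsAffineOpen V) (hV' : IsAffineOpen V') (h : V ≤ W i) (h' : V' ≤ V),
      R1 f d.K h' (F i V hV h) (F i V' hV' (h'.trans h)) := fun i V V' hV hV' h h' =>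
    R1.cancel (hW i) hV hV' (hFl _ _ _ _) (hFl _ _ _ _) (hF i V hV h) (hF i V' hV' (h'.trans h))
  have hFalg : ∀ (i : ι) (V : Y.Opens) (hV : IsAffineOpen V) (h : V ≤ W i) (x : A'),
      F i V hV h (algebraMap A (SA f V) (d.π x)) = Ideal.Quotient.mk _ (algebraMap A (SA f V) (d.δ x)) := by
    intro i V hV h x
    have h1 := hF i V hV h (algebraMap A (SA f (W i)) (d.π x))
    rw [(resA f h).commutes, (T0 i).alg, q_mk, (resA f h).commutes] at h1
    exact h1
  -- the cocycle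
  have hdiff : ∀ (i j : ι) (V : Y.Opens) (hV : IsAffineOpen V) (hi : V ≤ W i) (hj : V ≤ W j) (a : A),
      (F i V hV hi - F j V hV hj) (algebraMap A (SA f V) a) = 0 := by
    intro i j V hV hi hj a
    obtain ⟨x, rfl⟩ := d.hπ a
    rw [AddMonoidHom.sub_apply, hFalg, hFalg, sub_self]
  let κ : ∀ i j, Derivation A (SA f (W i ⊓ W j)) (SA f (W i ⊓ W j) ⧸ KS f d.K (W i ⊓ W j)) := fun i j =>
    toDer (F i (W i ⊓ W j) (hW2 i j) inf_le_left - F j (W i ⊓ W j) (hW2 i j) inf_le_right)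
      (leib_sub (hFl _ _ _ _) (hFl _ _ _ _)) (hdiff i j _ (hW2 i j) inf_le_left inf_le_right)
  have hκ : IsCoc1 f d.K W κ := by
    intro i j l d₁ d₂ d₃ h₁ h₂ h₃
    have hi : W i ⊓ W j ⊓ W l ≤ W i := inf_le_left.trans inf_le_left
    have hj : W i ⊓ W j ⊓ W l ≤ W j := inf_le_left.trans inf_le_right
    have hl : W i ⊓ W j ⊓ W l ≤ W l := inf_le_right
    have key : ∀ (a b : ι) (e : W i ⊓ W j ⊓ W l ≤ W a ⊓ W b)
        (D : Derivation A (SA f (W i ⊓ W j ⊓ W l)) (SA f (W i ⊓ W j ⊓ W l) ⧸ KS f d.K (W i ⊓ W j ⊓ W l))),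
        Ext1 f d.K e (κ a b) D →
        ad D = F a _ (hW3 i j l) (e.trans inf_le_left) - F b _ (hW3 i j l) (e.trans inf_le_right) := by
      intro a b e D hD
      have u1 : R1 f d.K e (ad (κ a b)) (ad D) := (ext1_iff f d.K e _ _).1 hD
      have u2 : R1 f d.K e (ad (κ a b)) (F a _ (hW3 i j l) (e.trans inf_le_left) - F b _ (hW3 i j l) (e.trans inf_le_right)) :=
        fun x => R1.sub (hFF a _ _ (hW2 a b) (hW3 i j l) inf_le_left e) (hFF b _ _ (hW2 a b) (hW3 i j l) inf_le_right e) x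
      exact R1.unique (hW2 a b) (hW3 i j l) (leib_der D) (leib_sub (hFl _ _ _ _) (hFl _ _ _ _)) u1 u2
    have e1 := key i j inf_le_left d₁ h₁
    have e2 := key j l (inf_le_inf_right _ inf_le_right) d₂ h₂
    have e3 := key i l (inf_le_inf_right _ inf_le_left) d₃ h₃
    ext x
    have e1' : d₁ x = _ := DFunLike.congr_fun e1 x
    have e2' : d₂ x = _ := DFunLike.congr_fun e2 x
    have e3' : d₃ x = _ := DFunLike.congr_fun e3 x
    rw [Derivation.add_apply, e1', e2', e3', AddMonoidHom.sub_apply, AddMonoidHom.sub_apply, AddMonoidHom.sub_apply]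
    abel
  obtain ⟨κ', hκ', l, hl⟩ := hL κ hκ
  -- restrictions of the coboundary and of the cocycle
  choose L hLr using fun (i : ι) (V : Y.Opens) (hV : IsAffineOpen V) (h : V ≤ W i) =>
    exists_der1 f d.K (hW i) hV h (l i)
  have hLL : ∀ (i : ι) (V V' : Y.Opens) (hV : IsAffineOpen V) (hV' : IsAffineOpen V') (h : V ≤ W i) (h' : V' ≤ V),
      R1 f d.K h' (ad (L i V hV h)) (ad (L i V' hV' (h'.trans h))) := fun i V V' hV hV' h h' =>
    R1.cancel (hW i) hV hV' (leib_der _) (leib_der _) (D := ad (l i)) (hLr i V hV h) (hLr i V' hV' (h'.trans h))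
  choose C hC using fun (i j : ι) (V : Y.Opens) (hV : IsAffineOpen V) (h : V ≤ W i ⊓ W j) =>
    exists_der0 f (hW2 i j) hV h (κ' i j)
  have hCC : ∀ (i j : ι) (V V' : Y.Opens) (hV : IsAffineOpen V) (hV' : IsAffineOpen V') (h : V ≤ W i ⊓ W j)
      (h' : V' ≤ V), Ext0 f h' (C i j V hV h) (C i j V' hV' (h'.trans h)) := fun i j V V' hV hV' h h' =>
    R0.cancel (hW2 i j) hV hV' (hC i j V hV h) (hC i j V' hV' (h'.trans h))
  -- the relation over all small affine opens
  have star : ∀ (i j : ι) (V : Y.Opens) (hV : IsAffineOpen V) (h : V ≤ W i ⊓ W j) (x : SA f V),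
      F i V hV (h.trans inf_le_left) x - F j V hV (h.trans inf_le_right) x =
        Ideal.Quotient.mk _ (C i j V hV h x) + L i V hV (h.trans inf_le_left) x - L j V hV (h.trans inf_le_right) x := by
    intro i j V hV h
    have h0 : F i _ (hW2 i j) inf_le_left - F j _ (hW2 i j) inf_le_right =
        md (κ' i j) + ad (L i _ (hW2 i j) inf_le_left) - ad (L j _ (hW2 i j) inf_le_right) := by
      ext x
      exact hl i j _ _ ((ext1_iff f d.K _ _ _).2 (hLr i _ (hW2 i j) inf_le_left))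
        ((ext1_iff f d.K _ _ _).2 (hLr j _ (hW2 i j) inf_le_right)) x
    have h1 : R1 f d.K h (F i _ (hW2 i j) inf_le_left - F j _ (hW2 i j) inf_le_right)
        (F i V hV (h.trans inf_le_left) - F j V hV (h.trans inf_le_right)) :=
      R1.sub (hFF i _ _ (hW2 i j) hV inf_le_left h) (hFF j _ _ (hW2 i j) hV inf_le_right h)
    have h2 : R1 f d.K h (md (κ' i j) + ad (L i _ (hW2 i j) inf_le_left) - ad (L j _ (hW2 i j) inf_le_right))
        (md (C i j V hV h) + ad (L i V hV (h.trans inf_le_left)) - ad (L j V hV (h.trans inf_le_right))) :=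
      R1.sub (R1.add (R1_md (hC i j V hV h)) (hLL i _ _ (hW2 i j) hV inf_le_left h))
        (hLL j _ _ (hW2 i j) hV inf_le_right h)
    rw [h0] at h1
    have h3 := R1.unique (hW2 i j) hV (leib_sub (hFl _ _ _ _) (hFl _ _ _ _))
      (leib_sub (leib_add (leib_md _) (leib_der _)) (leib_der _)) h1 h2
    intro x
    exact DFunLike.congr_fun h3 x
  have hCcomp : ∀ (i j k : ι) (V : Y.Opens) (hV : IsAffineOpen V) (hij : V ≤ W i ⊓ W j) (hjk : V ≤ W j ⊓ W k)
      (hik : V ≤ W i ⊓ W k), C i j V hV hij + C j k V hV hjk = C i k V hV hik := by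
    intro i j k V hV hij hjk hik
    have h3 : V ≤ W i ⊓ W j ⊓ W k := le_inf hij (hjk.trans inf_le_right)
    have e1 := hCC i j _ V (hW3 i j k) hV inf_le_left h3
    have e2 := hCC j k _ V (hW3 i j k) hV (inf_le_inf_right _ inf_le_right) h3
    have e3 := hCC i k _ V (hW3 i j k) hV (inf_le_inf_right _ inf_le_left) h3
    have e4 := hκ' i j k _ _ _ (hC i j _ (hW3 i j k) inf_le_left)
      (hC j k _ (hW3 i j k) (inf_le_inf_right _ inf_le_right))
      (hC i k _ (hW3 i j k) (inf_le_inf_right _ inf_le_left))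
    rw [← e4] at e3
    refine R0.unique (hW3 i j k) hV (h := h3) (D := C i j _ (hW3 i j k) inf_le_left +
      C j k _ (hW3 i j k) (inf_le_inf_right _ inf_le_right)) (fun x => ?_) e3
    rw [Derivation.add_apply, Derivation.add_apply, map_add, e1, e2]
  have hCself : ∀ (i : ι) (V : Y.Opens) (hV : IsAffineOpen V) (h : V ≤ W i ⊓ W i), C i i V hV h = 0 := by
    intro i V hV h
    have := hCcomp i i i V hV h h h
    exact left_eq_add.1 this.symm
  -- the system
  let J : Set Y.Opens := {V | IsAffineOpen V ∧ ∃ i, V ≤ W i}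
  choose v hv using fun V : J => V.2.2
  have hvv : ∀ {V V' : J}, V ≤ V' → V.1 ≤ W (v V) ⊓ W (v V') := fun {V V'} e => le_inf (hv V) (le_trans e (hv V'))
  refine ⟨{ J := J, inter := ?_, cover := ?_, aff := fun V hV => hV.1, t := ?_, κ := ?_, H := ?_,
            κ_self := ?_, κ_comp := ?_ }⟩
  · rintro V ⟨hV, i, hi⟩ V' ⟨hV', j, hj⟩ x hx hx'
    obtain ⟨_, ⟨U, hU, rfl⟩, hxU, hUV⟩ := Y.isBasis_affineOpens.exists_subset_of_mem_open
      (show x ∈ ((V ⊓ V' : Y.Opens) : Set Y) from ⟨hx, hx'⟩) (V ⊓ V').isOpen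
    have hUV' : U ≤ V ⊓ V' := hUV
    exact ⟨U, ⟨hU, i, (hUV'.trans inf_le_left).trans hi⟩, hUV'.trans inf_le_left, hUV'.trans inf_le_right, hxU⟩
  · intro x
    have hx : x ∈ ⨆ i, W i := by rw [hcov]; trivial
    obtain ⟨i, hi⟩ := Opens.mem_iSup.1 hx
    exact ⟨W i, ⟨hW i, i, le_rfl⟩, hi⟩
  · exact fun V => ⟨F (v V) V.1 V.2.1 (hv V) - ad (L (v V) V.1 V.2.1 (hv V)),
      leib_sub (hFl _ _ _ _) (leib_der _), fun x => by
        rw [AddMonoidHom.sub_apply, hFalg]
        change _ - L (v V) V.1 V.2.1 (hv V) (algebraMap A (SA f V.1) (d.π x)) = _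
        rw [Derivation.map_algebraMap, sub_zero]⟩
  · exact fun {V V'} e => C (v V) (v V') V.1 V.2.1 (hvv e)
  · intro V V' e x y hxy
    have h1 : F (v V') V'.1 V'.2.1 (hv V') x - L (v V') V'.1 V'.2.1 (hv V') x = Ideal.Quotient.mk _ y := hxy
    have h2 := congrArg (q f d.K e) h1
    have h3 := hFF (v V') V'.1 V.1 V'.2.1 V.2.1 (hv V') e x
    have h4 : L (v V') V.1 V.2.1 (le_trans e (hv V')) (resA f e x) = q f d.K e (L (v V') V'.1 V'.2.1 (hv V') x) :=
      hLL (v V') V'.1 V.1 V'.2.1 V.2.1 (hv V') e x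
    rw [map_sub, q_mk, ← h3, ← h4] at h2
    have h5 := star (v V) (v V') V.1 V.2.1 (hvv e) (resA f e x)
    change F (v V) V.1 V.2.1 (hv V) (resA f e x) - L (v V) V.1 V.2.1 (hv V) (resA f e x) = _
    rw [map_add, ← h2]
    rw [sub_eq_iff_eq_add] at h5
    rw [h5]
    abel
  · intro V x
    have := hCself (v V) V.1 V.2.1 (hvv (le_refl V))
    change C (v V) (v V) V.1 V.2.1 (hvv (le_refl V)) x = 0
    rw [this]
    rfl
  · intro U V V' e e' x
    have h1 := hCC (v V) (v V') V.1 U.1 V.2.1 U.2.1 (hvv e') e x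
    have h2 := hCcomp (v U) (v V) (v V') U.1 U.2.1 (hvv e) (le_trans e (hvv e')) (hvv (e.trans e'))
    change resA f e (C (v V) (v V') V.1 V.2.1 (hvv e') x) + C (v U) (v V) U.1 U.2.1 (hvv e) (resA f e x) =
      C (v U) (v V') U.1 U.2.1 (hvv (e.trans e')) (resA f e x)
    rw [← h1, ← h2, Derivation.add_apply, add_comm]

end main

/-- **Piece (G)**. -/
theorem glueT1 : GlueT1.{u} := by
  intro A' A _ _ π K δ hπ hsq hleib hinj hmem hex Y f _ ι W hW hW2 hW3 hcov hL
  let d : Dat A' A := ⟨π, K, δ, hπ, hsq, hleib, hinj, hmem, hex⟩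
  obtain ⟨S⟩ := exists_sys d f W hW hW2 hW3 hcov hL
  exact S.lift

end K103.T1
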