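import Mathlib.RingTheory.Smooth.Basic
import Mathlib.RingTheory.Etale.Basic
import Mathlib.RingTheory.Unramified.Basic
import Mathlib.Algebra.TrivSqZeroExt.Basic

/-! # Extension of derivations along formally smooth and formally étale maps (additive form) -/

set_option autoImplicit false
universe u

namespace K103.T1

/-- Leibniz rule of an additive map along a ring homomorphism. -/
def Leib {B C M : Type u} [CommRing B] [CommRing C] [AddCommGroup M] [Module C M] (r : B →+* C) (D : B →+ M) :
    Prop :=
  ∀ a b, D (a * b) = r a • D b + r b • D a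

section ext

variable {B C M : Type u} [CommRing B] [CommRing C] [AddCommGroup M] [Module C M]

theorem Leib.one {r : B →+* C} {D : B →+ M} (h : Leib r D) : D 1 = 0 := by
  have h1 := h 1 1
  rw [mul_one, map_one r, one_smul] at h1
  exact left_eq_add.1 h1

/-- The ring homomorphism to the trivial extension. -/
def Leib.toExt [Module Cᵐᵒᵖ M] [IsCentralScalar C M] {r : B →+* C} {D : B →+ M} (h : Leib r D) :
    B →+* TrivSqZeroExt C M where
  toFun b := (r b, D b)
  map_one' := by
    refine TrivSqZeroExt.ext ?_ ?_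
    · exact map_one r
    · exact h.one
  map_mul' a b := by
    refine TrivSqZeroExt.ext ?_ ?_
    · exact map_mul r a b
    · rw [TrivSqZeroExt.snd_mul, op_smul_eq_smul]
      exact h a b
  map_zero' := by
    refine TrivSqZeroExt.ext ?_ ?_
    · exact map_zero r
    · exact map_zero D
  map_add' a b := by
    refine TrivSqZeroExt.ext ?_ ?_
    · exact map_add r a b
    · exact map_add D a b

theorem ker_fst [Module Cᵐᵒᵖ M] [IsCentralScalar C M] (g : TrivSqZeroExt C M →+* C)
    (hg : ∀ z, g z = z.fst) : IsNilpotent (RingHom.ker g) := by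
  refine ⟨2, ?_⟩
  rw [pow_two, Ideal.zero_eq_bot, eq_bot_iff, Ideal.mul_le]
  intro x hx y hy
  rw [RingHom.mem_ker, hg] at hx hy
  rw [Ideal.mem_bot]
  refine TrivSqZeroExt.ext ?_ ?_
  · rw [TrivSqZeroExt.fst_mul, hx, zero_mul]; rfl
  · rw [TrivSqZeroExt.snd_mul, hx, hy, zero_smul, MulOpposite.op_zero, zero_smul, add_zero]; rfl

variable [Algebra B C]

/-- Extension along a formally smooth algebra. -/
theorem exists_leib [Algebra.FormallySmooth B C] (D : B →+ M) (hD : Leib (algebraMap B C) D) :
    ∃ D' : C →+ M, Leib (RingHom.id C) D' ∧ ∀ a, D' (algebraMap B C a) = D a := by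
  let _ : Module Cᵐᵒᵖ M := Module.compHom M ((RingHom.id C).fromOpposite mul_comm)
  have _ : IsCentralScalar C M := ⟨fun _ _ => rfl⟩
  let _ : Algebra B (TrivSqZeroExt C M) := (hD.toExt).toAlgebra
  let g : TrivSqZeroExt C M →ₐ[B] C :=
    { toFun := TrivSqZeroExt.fst
      map_one' := rfl
      map_mul' := fun a b => TrivSqZeroExt.fst_mul a b
      map_zero' := rfl
      map_add' := fun a b => TrivSqZeroExt.fst_add a b
      commutes' := fun b => rfl }
  have hg : Function.Surjective g := fun c => ⟨TrivSqZeroExt.inl c, rfl⟩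
  have hk : IsNilpotent (RingHom.ker (g : TrivSqZeroExt C M →+* C)) := ker_fst _ fun z => rfl
  let φ := Algebra.FormallySmooth.liftOfSurjective (AlgHom.id B C) g hg hk
  have hφ : ∀ c, (φ c).fst = c := fun c => Algebra.FormallySmooth.liftOfSurjective_apply (AlgHom.id B C) g hg hk c
  let D' : C →+ M := AddMonoidHom.mk' (fun c => (φ c).snd) fun a b => by
    change (φ (a + b)).snd = (φ a).snd + (φ b).snd
    rw [map_add, TrivSqZeroExt.snd_add]
  refine ⟨D', fun a b => ?_, fun a => ?_⟩
  · change (φ (a * b)).snd = a • (φ b).snd + b • (φ a).snd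
    rw [map_mul, TrivSqZeroExt.snd_mul, op_smul_eq_smul, hφ, hφ]
  · change (φ (algebraMap B C a)).snd = D a
    rw [AlgHom.commutes]
    rfl

/-- Uniqueness along a formally unramified algebra. -/
theorem leib_unique [Algebra.FormallyUnramified B C] {D₁ D₂ : C →+ M} (h₁ : Leib (RingHom.id C) D₁)
    (h₂ : Leib (RingHom.id C) D₂) (h : ∀ a, D₁ (algebraMap B C a) = D₂ (algebraMap B C a)) : D₁ = D₂ := by
  let _ : Module Cᵐᵒᵖ M := Module.compHom M ((RingHom.id C).fromOpposite mul_comm)
  have _ : IsCentralScalar C M := ⟨fun _ _ => rfl⟩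
  let _ : Algebra B (TrivSqZeroExt C M) := (h₁.toExt.comp (algebraMap B C)).toAlgebra
  let φ₁ : C →ₐ[B] TrivSqZeroExt C M := { h₁.toExt with commutes' := fun b => rfl }
  let φ₂ : C →ₐ[B] TrivSqZeroExt C M :=
    { h₂.toExt with
      commutes' := fun b => by
        refine TrivSqZeroExt.ext rfl ?_
        exact (h b).symm }
  let g : TrivSqZeroExt C M →+* C :=
    { toFun := TrivSqZeroExt.fst
      map_one' := rfl
      map_mul' := fun a b => TrivSqZeroExt.fst_mul a b
      map_zero' := rfl
      map_add' := fun a b => TrivSqZeroExt.fst_add a b }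
  have key : φ₁ = φ₂ := Algebra.FormallyUnramified.lift_unique_of_ringHom g (ker_fst _ fun z => rfl) φ₁ φ₂
    (RingHom.ext fun c => rfl)
  ext c
  exact congrArg TrivSqZeroExt.snd (DFunLike.congr_fun key c)

end ext

end K103.T1
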