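import Groth.Agent.FlatA.LocalCriterion
import Mathlib.RingTheory.Flat.EquationalCriterion
import Mathlib.RingTheory.RingHom.Flat

/-! # T¹-lifting: flatness of the algebras glued in piece (G) -/

set_option autoImplicit false
universe u
open TensorProduct

namespace K103.T1

variable {A' A R B : Type u} [CommRing A'] [CommRing A] [CommRing R] [CommRing B] [Algebra A' R] [Algebra A B]

/-- `A' → A` square-zero with kernel `I`, `R → B` a surjection over it with kernel `I R`, `B` flat over `A`; if an additive
map `δ`, injective on `I` and `A`-linear there, extends to `s` with `s (x r) = δ x · p r` on `I R`, then `R` is flat over `A'`. -/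
theorem flat_of (π : A' →+* A) (hπ : Function.Surjective π) (hI : ∀ x y, π x = 0 → π y = 0 → x * y = 0)
    (p : R →+* B) (hp : Function.Surjective p) (hpa : ∀ x, p (algebraMap A' R x) = algebraMap A B (π x))
    (hker : RingHom.ker p = (RingHom.ker π).map (algebraMap A' R))
    (δ : A' →+ A) (hδ : ∀ x y, δ (x * y) = π x * δ y + π y * δ x) (hinj : ∀ x, π x = 0 → δ x = 0 → x = 0)
    (s : R →+ B) (hs : ∀ (x : A') (r : R), π x = 0 → s (algebraMap A' R x * r) = algebraMap A B (δ x) * p r)
    [Module.Flat A B] : Module.Flat A' R := by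
  classical
  set I := RingHom.ker π with hIdef
  have hI2 : I * I = ⊥ := by
    rw [eq_bot_iff, Ideal.mul_le]
    intro x hx y hy
    exact hI x y hx hy
  refine Groth.Agent.FlatA.LocalCriterion.flat_of_isNilpotent I ⟨2, by rw [pow_two, hI2]; rfl⟩ ?_ ?_
  · rw [injective_iff_map_eq_zero]
    intro t ht
    obtain ⟨S, rfl⟩ := TensorProduct.exists_finset t
    have h0 := congrArg (TensorProduct.lid A' R) ht
    rw [map_sum, map_sum, map_zero] at h0
    simp only [LinearMap.rTensor_tmul, TensorProduct.lid_tmul, Submodule.subtype_apply] at h0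
    have h1 : ∑ i : S, δ ((i.1.1 : I) : A') • p i.1.2 = 0 := by
      have h2 := congrArg s h0
      rw [map_sum, map_zero] at h2
      rw [← h2, ← Finset.sum_coe_sort S]
      refine Finset.sum_congr rfl fun i _ => ?_
      rw [Algebra.smul_def, Algebra.smul_def, hs _ _ i.1.1.2]
    obtain ⟨n, a, y, ha, hy⟩ := Module.Flat.isTrivialRelation_of_sum_smul_eq_zero h1
    choose Y hY using fun j => hp (y j)
    choose A2 hA2 using fun (i : S) (j : Fin n) => hπ (a i j)
    have hz : ∀ i : S, i.1.2 - ∑ j, A2 i j • Y j ∈ I.map (algebraMap A' R) := by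
      intro i
      rw [← hker, RingHom.mem_ker, map_sub, map_sum, sub_eq_zero]
      refine (ha i).trans ?_
      refine Finset.sum_congr rfl fun j _ => ?_
      rw [Algebra.smul_def, Algebra.smul_def, map_mul, hpa, hA2, hY]
    have hkill : ∀ (x : I) (z : R), z ∈ I.map (algebraMap A' R) → x ⊗ₜ[A'] z = 0 := by
      intro x z hz
      rw [Ideal.map, ← Ideal.submodule_span_eq] at hz
      induction hz using Submodule.span_induction with
      | mem z hz =>
        obtain ⟨w, hw, rfl⟩ := hz
        rw [Algebra.algebraMap_eq_smul_one, ← TensorProduct.smul_tmul]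
        have : w • x = 0 := by
          apply Subtype.ext
          exact hI w x hw x.2
        rw [this, TensorProduct.zero_tmul]
      | zero => exact TensorProduct.tmul_zero _ _
      | add z w _ _ h1 h2 => rw [TensorProduct.tmul_add, h1, h2, add_zero]
      | smul r z _ h1 =>
        have h2 := congrArg (LinearMap.lTensor I (LinearMap.mulLeft A' r)) h1
        simpa using h2
    have hx0 : ∀ j, ∑ i : S, A2 i j • (i.1.1 : I) = 0 := by
      intro j
      apply Subtype.ext
      rw [AddSubmonoidClass.coe_finsetSum]
      refine hinj _ ?_ ?_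
      · rw [map_sum]
        refine Finset.sum_eq_zero fun i _ => ?_
        exact (I.smul_mem (A2 i j) i.1.1.2 : _)
      · rw [map_sum]
        have h3 := hy j
        rw [← h3]
        refine Finset.sum_congr rfl fun i _ => ?_
        have h4 : π (i.1.1 : I).1 = 0 := i.1.1.2
        change δ (A2 i j * (i.1.1 : I).1) = _
        rw [hδ, h4, zero_mul, add_zero, hA2, mul_comm]
    rw [← Finset.sum_coe_sort S]
    have h5 : ∀ i : S, (i.1.1 : I) ⊗ₜ[A'] i.1.2 = ∑ j, (A2 i j • (i.1.1 : I)) ⊗ₜ[A'] Y j := by
      intro i
      have h6 := hkill i.1.1 _ (hz i)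
      rw [TensorProduct.tmul_sub, sub_eq_zero, TensorProduct.tmul_sum] at h6
      rw [h6]
      refine Finset.sum_congr rfl fun j _ => ?_
      rw [TensorProduct.smul_tmul]
    rw [Finset.sum_congr rfl fun i _ => h5 i, Finset.sum_comm]
    refine Finset.sum_eq_zero fun j _ => ?_
    rw [← TensorProduct.sum_tmul, hx0, TensorProduct.zero_tmul]
  · let e : (A' ⧸ I) ≃+* A := RingHom.quotientKerEquivOfSurjective hπ
    let _ : Algebra (A' ⧸ I) B := ((algebraMap A B).comp e.toRingHom).toAlgebra
    let _ : Algebra A' B := ((algebraMap A B).comp π).toAlgebra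
    have hT : IsScalarTower A' (A' ⧸ I) B := IsScalarTower.of_algebraMap_eq fun x => rfl
    have hB : Module.Flat (A' ⧸ I) B := by
      have h1 : (algebraMap A B).Flat := by
        rw [RingHom.flat_algebraMap_iff]; infer_instance
      have h2 : (((algebraMap A B).comp e.toRingHom)).Flat := RingHom.Flat.comp (RingHom.Flat.of_bijective e.bijective) h1
      exact h2
    let p' : R →ₗ[A'] B :=
      { toFun := p
        map_add' := map_add p
        map_smul' := fun x r => by
          rw [Algebra.smul_def, map_mul, hpa, RingHom.id_apply, Algebra.smul_def]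
          rfl }
    have hk : (I • (⊤ : Submodule A' R)) = LinearMap.ker p' := by
      rw [Ideal.smul_top_eq_map, ← hker]
      ext x
      rfl
    let E1 : (R ⧸ (I • (⊤ : Submodule A' R))) ≃ₗ[A'] B :=
      (Submodule.quotEquivOfEq _ _ hk).trans (p'.quotKerEquivOfSurjective hp)
    let E : ((A' ⧸ I) ⊗[A'] R) ≃ₗ[A'] B := (quotTensorEquivQuotSMul R I).trans E1
    exact Module.Flat.of_linearEquiv (E.extendScalarsOfSurjective Ideal.Quotient.mk_surjective)

end K103.T1
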