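import Groth.Agent.Deform.K103.T1Res
import Groth.Agent.S1319
import Groth.Agent.SGA7.K565.Thick
import Groth.Agent.CalgA.TwoGlue

/-! # The affine pieces of the lift -/

set_option autoImplicit false
universe u
open CategoryTheory CategoryTheory.Limits AlgebraicGeometry TopologicalSpace Opposite

namespace K103.T1

open Groth.Agent.Lefpen.H721.OmegaSec K694.Iface

variable {A' A : Type u} [CommRing A'] [CommRing A] {d : Dat A' A} {Y : Scheme.{u}} (f : Y ⟶ Spec (CommRingCat.of A))

/-- A square with surjective verticals is a pushout when the kernel downstairs is generated by the one upstairs. -/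
theorem isPushout_of_surjective {B C B0 C0 : CommRingCat.{u}} {s : B ⟶ C} {χB : B ⟶ B0} {χC : C ⟶ C0} {s0 : B0 ⟶ C0}
    (w : s ≫ χC = χB ≫ s0) (hB : Function.Surjective χB.hom) (hC : Function.Surjective χC.hom)
    (hker : RingHom.ker χC.hom ≤ (RingHom.ker χB.hom).map s.hom) : IsPushout s χB χC s0 := by
  have hepi : Epi χB := ConcreteCategory.epi_of_surjective _ hB
  have hepi' : Epi χC := ConcreteCategory.epi_of_surjective _ hC
  have key : ∀ (T : CommRingCat.{u}) (x : B0 ⟶ T) (y : C ⟶ T), s ≫ y = χB ≫ x →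
      ∃ z : C0 ⟶ T, χC ≫ z = y := by
    intro T x y hxy
    have h1 : RingHom.ker χC.hom ≤ RingHom.ker y.hom := by
      refine hker.trans ?_
      rw [Ideal.map_le_iff_le_comap]
      intro r hr
      rw [Ideal.mem_comap, RingHom.mem_ker]
      have h2 : y (s r) = x (χB r) := congr($(hxy).hom r)
      have h3 : χB r = 0 := hr
      exact h2.trans (by rw [h3, map_zero])
    refine ⟨CommRingCat.ofHom (RingHom.liftOfSurjective χC.hom hC ⟨y.hom, h1⟩), ?_⟩
    ext c
    exact RingHom.liftOfRightInverse_comp_apply _ _ (Function.rightInverse_surjInv hC) _ c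
  refine ⟨⟨w⟩, ⟨PushoutCocone.IsColimit.mk _ (fun c => (key _ c.inr c.inl c.condition).choose) ?_ ?_ ?_⟩⟩
  · intro c
    exact (key _ c.inr c.inl c.condition).choose_spec
  · intro c
    rw [← cancel_epi χB, ← reassoc_of% w, (key _ c.inr c.inl c.condition).choose_spec, c.condition]
  · intro c m h1 h2
    rw [← cancel_epi χC, (key _ c.inr c.inl c.condition).choose_spec]
    exact h1

/-- `Spec` of the ring of a twisted derivation. -/
noncomputable abbrev P {V : Y.Opens} (t : d.TD (SA f V)) : Scheme.{u} := Spec (CommRingCat.of t.ring)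

/-- The canonical morphism to the spectrum of the ring of functions. -/
noncomputable def jj (V : Y.Opens) : V.toScheme ⟶ Spec (CommRingCat.of (SA f V)) := V.toSpecΓ

theorem isIso_jj {V : Y.Opens} (hV : IsAffineOpen V) : IsIso (jj f V) := by
  have h1 : V.toSpecΓ = hV.isoSpec.hom := rfl
  change IsIso V.toSpecΓ
  rw [h1]
  infer_instance

theorem jj_res {V W : Y.Opens} (h : V ≤ W) :
    jj f V ≫ Spec.map (CommRingCat.ofHom (resA f h).toRingHom) = Y.homOfLE h ≫ jj f W :=
  Scheme.Opens.toSpecΓ_SpecMap_presheaf_map V W h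

theorem jj_sec {V : Y.Opens} (hV : IsAffineOpen V) :
    jj f V ≫ Spec.map (CommRingCat.ofHom (algebraMap A (SA f V))) = V.ι ≫ f := by
  have h1 : jj f V ≫ (hV.fromSpec ≫ f) = V.ι ≫ f := by
    rw [← Category.assoc]
    exact congrArg (fun φ => φ ≫ f) hV.toSpecΓ_fromSpec
  exact (congrArg (fun φ => jj f V ≫ φ) (specMap_sec f hV)).symm.trans h1

/-- The inclusion. -/
noncomputable def inc {V : Y.Opens} (t : d.TD (SA f V)) : V.toScheme ⟶ P f t :=
  jj f V ≫ Spec.map (CommRingCat.ofHom t.pr)

/-- The structure morphism. -/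
noncomputable def str {V : Y.Opens} (t : d.TD (SA f V)) : P f t ⟶ Spec (CommRingCat.of A') :=
  Spec.map (CommRingCat.ofHom t.algHom)

theorem flat_str [Smooth f] {V : Y.Opens} (hV : IsAffineOpen V) (t : d.TD (SA f V)) : Flat (str f t) := by
  have := flat_sec f hV
  have h := t.flat
  rw [str, HasRingHomProperty.Spec_iff (P := @Flat)]
  exact h

theorem isPullback_inc {V : Y.Opens} (hV : IsAffineOpen V) (t : d.TD (SA f V)) :
    IsPullback (inc f t) (V.ι ≫ f) (str f t) (Spec.map (CommRingCat.ofHom d.π)) := by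
  have := isIso_jj f hV
  have h1 : IsPullback (jj f V) (V.ι ≫ f) (Spec.map (CommRingCat.ofHom (algebraMap A (SA f V)))) (𝟙 _) :=
    IsPullback.of_horiz_isIso ⟨by rw [Category.comp_id]; exact jj_sec f hV⟩
  have h2 : IsPushout (CommRingCat.ofHom t.algHom) (CommRingCat.ofHom d.π)
      (CommRingCat.ofHom t.pr) (CommRingCat.ofHom (algebraMap A (SA f V))) :=
    isPushout_of_surjective rfl d.hπ t.pr_surjective t.ker_pr.le
  have h3 : IsPullback (Spec.map (CommRingCat.ofHom t.pr)) (Spec.map (CommRingCat.ofHom (algebraMap A (SA f V))))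
      (Spec.map (CommRingCat.ofHom t.algHom)) (Spec.map (CommRingCat.ofHom d.π)) := by
    have := h2.op.map Scheme.Spec
    exact this.flip
  have h4 := h1.paste_horiz h3
  rw [Category.id_comp] at h4
  exact h4

theorem thick : MoreMor.IsFiniteOrderThickening (Spec.map (CommRingCat.ofHom d.π)) :=
  K565.Thick.isFiniteOrderThickening d.π d.hπ ⟨2, by
    rw [pow_two, Ideal.zero_eq_bot, eq_bot_iff, Ideal.mul_le]
    intro x hx y hy
    exact d.sq x y hx hy⟩

theorem isClosedImmersion_inc {V : Y.Opens} (hV : IsAffineOpen V) (t : d.TD (SA f V)) :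
    IsClosedImmersion (inc f t) :=
  have := (thick (d := d)).1.1
  MorphismProperty.of_isPullback (isPullback_inc f hV t).flip this

theorem surjective_inc {V : Y.Opens} (hV : IsAffineOpen V) (t : d.TD (SA f V)) :
    Surjective (inc f t) :=
  have := (thick (d := d)).1.2
  MorphismProperty.of_isPullback (isPullback_inc f hV t).flip this

/-- The transition morphisms. -/
noncomputable def trS {V W : Y.Opens} (h : V ≤ W) (t : d.TD (SA f V)) (s : d.TD (SA f W))
    (κ : Derivation A (SA f V) (SA f V))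
    (H : ∀ x y, s.D x = Ideal.Quotient.mk _ y → t.D (resA f h x) = Ideal.Quotient.mk _ (resA f h y + κ (resA f h x))) :
    P f t ⟶ P f s :=
  Spec.map (CommRingCat.ofHom (Dat.TD.tr (resA f h) κ H))

section

variable {V W : Y.Opens} (h : V ≤ W) (t : d.TD (SA f V)) (s : d.TD (SA f W))
    (κ : Derivation A (SA f V) (SA f V))
    (H : ∀ x y, s.D x = Ideal.Quotient.mk _ y → t.D (resA f h x) = Ideal.Quotient.mk _ (resA f h y + κ (resA f h x)))

theorem trS_str : trS f h t s κ H ≫ str f s = str f t := by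
  rw [trS, str, str, ← Spec.map_comp, ← CommRingCat.ofHom_comp, Dat.TD.tr_algHom]

theorem inc_trS : inc f t ≫ trS f h t s κ H = Y.homOfLE h ≫ inc f s := by
  have h1 : (CommRingCat.ofHom (Dat.TD.tr (resA f h) κ H)) ≫ CommRingCat.ofHom t.pr =
      CommRingCat.ofHom s.pr ≫ CommRingCat.ofHom (resA f h).toRingHom := by
    ext x
    rfl
  have h2 : Spec.map (CommRingCat.ofHom t.pr) ≫ trS f h t s κ H =
      Spec.map (CommRingCat.ofHom (resA f h).toRingHom) ≫ Spec.map (CommRingCat.ofHom s.pr) := by
    rw [trS, ← Spec.map_comp, h1, Spec.map_comp]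
  rw [inc, inc, Category.assoc, h2, ← Category.assoc, jj_res, Category.assoc]

theorem isOpenImmersion_trS [Smooth f] (hV : IsAffineOpen V) (hW : IsAffineOpen W) :
    IsOpenImmersion (trS f h t s κ H) := by
  have h1 := isPullback_inc f hV t
  have h2 := isPullback_inc f hW s
  have h3 : IsPullback (inc f t) (Y.homOfLE h ≫ W.ι ≫ f) (trS f h t s κ H ≫ str f s)
      (Spec.map (CommRingCat.ofHom d.π)) := by
    rw [trS_str, Scheme.homOfLE_ι_assoc]
    exact h1
  have h4 : Flat (trS f h t s κ H ≫ str f s) := by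
    rw [trS_str]
    exact flat_str f hV t
  exact (Groth.Agent.S1319.result (inc f t) (inc f s) (Spec.map (CommRingCat.ofHom d.π)) (Y.homOfLE h)
    (trS f h t s κ H) (W.ι ≫ f) (str f s) thick h3 h2 (inc_trS f h t s κ H)).1 inferInstance

end

end K103.T1
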