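import Groth.Agent.Deform.K103.T1Ring
import Groth.Agent.Deform.K694.Iface
import Groth.Agent.Deform.K679.ThGlue
import Mathlib.AlgebraicGeometry.Morphisms.Etale

/-! # Restrictions of derivations over affine opens -/

set_option autoImplicit false
universe u
open CategoryTheory CategoryTheory.Limits AlgebraicGeometry TopologicalSpace Opposite

namespace K103.T1

open Groth.Agent.Lefpen.H721.OmegaSec K694.Iface

variable {A : Type u} [CommRing A] {Y : Scheme.{u}} (f : Y ⟶ Spec (CommRingCat.of A))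

theorem etale_res {W V : Y.Opens} (hW : IsAffineOpen W) (hV : IsAffineOpen V) (h : V ≤ W) :
    (resA f h).toRingHom.Etale := by
  have h1 := HasRingHomProperty.appLE (P := @Etale) (𝟙 Y) inferInstance ⟨W, hW⟩ ⟨V, hV⟩ h
  have h2 : (𝟙 Y : Y ⟶ Y).appLE W V h = Y.presheaf.map (homOfLE h).op := by
    rw [Scheme.Hom.appLE, Scheme.Hom.id_app]
    exact Category.id_comp _
  rw [h2] at h1
  exact h1

theorem secHom_eq (W : Y.Opens) :
    CommRingCat.ofHom (algebraMap A (SA f W)) =
      (Scheme.ΓSpecIso (CommRingCat.of A)).inv ≫ f.appLE ⊤ W (show W ≤ f ⁻¹ᵁ ⊤ from le_top) := by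
  rw [Scheme.Hom.appLE]
  rfl

theorem specMap_sec {W : Y.Opens} (hW : IsAffineOpen W) :
    hW.fromSpec ≫ f = Spec.map (CommRingCat.ofHom (algebraMap A (SA f W))) := by
  have e : W ≤ f ⁻¹ᵁ ⊤ := fun _ _ => trivial
  have h1 : Spec.map (f.appLE ⊤ W e) ≫ (isAffineOpen_top (Spec (CommRingCat.of A))).fromSpec = hW.fromSpec ≫ f :=
    IsAffineOpen.SpecMap_appLE_fromSpec f (isAffineOpen_top _) hW e
  have h2 : Spec.map ((Scheme.ΓSpecIso (CommRingCat.of A)).inv ≫ f.appLE ⊤ W e) =
      Spec.map (f.appLE ⊤ W e) ≫ Spec.map (Scheme.ΓSpecIso (CommRingCat.of A)).inv := Spec.map_comp _ _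
  rw [← h1, IsAffineOpen.fromSpec_top, Scheme.isoSpec_Spec_inv]
  exact h2.symm.trans (congrArg Spec.map (secHom_eq f W)).symm

theorem smooth_sec [Smooth f] {W : Y.Opens} (hW : IsAffineOpen W) : (algebraMap A (SA f W)).Smooth := by
  have h1 := HasRingHomProperty.appLE (P := @Smooth) f inferInstance ⟨⊤, isAffineOpen_top _⟩ ⟨W, hW⟩
    (show W ≤ f ⁻¹ᵁ ⊤ from le_top)
  have h2 : algebraMap A (SA f W) = (f.appLE ⊤ W (show W ≤ f ⁻¹ᵁ ⊤ from le_top)).hom.comp
      (Scheme.ΓSpecIso (CommRingCat.of A)).symm.commRingCatIsoToRingEquiv.toRingHom := by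
    have := congrArg CommRingCat.Hom.hom (secHom_eq f W)
    exact this
  rw [h2]
  exact RingHom.Smooth.respectsIso.2 _ _ h1

theorem flat_sec [Smooth f] {W : Y.Opens} (hW : IsAffineOpen W) : Module.Flat A (SA f W) := by
  have h := smooth_sec f hW
  have : Algebra.Smooth A (SA f W) := h
  infer_instance

variable (K : Ideal A)

/-- The restriction of functions modulo `K`. -/
noncomputable def q {W V : Y.Opens} (h : V ≤ W) : (SA f W ⧸ KS f K W) →+* (SA f V ⧸ KS f K V) :=
  Ideal.quotientMap _ (resA f h).toRingHom (by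
    rw [← Ideal.map_le_iff_le_comap, KS, KS, Ideal.map_map]
    exact le_of_eq (congrArg (fun φ => K.map φ) (resA f h).comp_algebraMap))

theorem q_mk {W V : Y.Opens} (h : V ≤ W) (x : SA f W) :
    q f K h (Ideal.Quotient.mk _ x) = Ideal.Quotient.mk _ (resA f h x) := rfl

theorem q_q {W V U : Y.Opens} (h : V ≤ W) (h' : U ≤ V) (z : SA f W ⧸ KS f K W) :
    q f K h' (q f K h z) = q f K (h'.trans h) z := by
  obtain ⟨x, rfl⟩ := Ideal.Quotient.mk_surjective z
  rw [q_mk, q_mk, q_mk, resA_resA]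

theorem q_smul {W V : Y.Opens} (h : V ≤ W) (a : SA f W) (z : SA f W ⧸ KS f K W) :
    q f K h (a • z) = resA f h a • q f K h z := by
  obtain ⟨x, rfl⟩ := Ideal.Quotient.mk_surjective z
  exact congrArg (Ideal.Quotient.mk (KS f K V)) (map_mul (resA f h) a x)

theorem ext1_iff {V V' : Y.Opens} (h : V' ≤ V) (D : Derivation A (SA f V) (SA f V ⧸ KS f K V))
    (D' : Derivation A (SA f V') (SA f V' ⧸ KS f K V')) :
    Ext1 f K h D D' ↔ ∀ x, D' (resA f h x) = q f K h (D x) := by
  constructor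
  · intro H x
    obtain ⟨y, hy⟩ := Ideal.Quotient.mk_surjective (D x)
    rw [H x y hy.symm, ← hy, q_mk]
  · intro H x y hy
    rw [H, hy, q_mk]

/-- Extension of derivations to smaller opens. -/
theorem exists_ext {W V : Y.Opens} (hW : IsAffineOpen W) (hV : IsAffineOpen V) (h : V ≤ W) {M N : Type u}
    [AddCommGroup M] [AddCommGroup N] [Module (SA f W) M] [Module (SA f V) N] (ρ : M →+ N)
    (hρ : ∀ (a : SA f W) (m : M), ρ (a • m) = resA f h a • ρ m) (D : SA f W →+ M)
    (hD : Leib (RingHom.id _) D) :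
    ∃ D' : SA f V →+ N, Leib (RingHom.id _) D' ∧ ∀ x, D' (resA f h x) = ρ (D x) := by
  let _ := (resA f h).toRingHom.toAlgebra
  have : Algebra.Etale (SA f W) (SA f V) := etale_res f hW hV h
  exact exists_leib (B := SA f W) (ρ.comp D) fun a b => by
    change ρ (D (a * b)) = resA f h a • ρ (D b) + resA f h b • ρ (D a)
    rw [hD, map_add, hρ, hρ]
    rfl

theorem ext_unique {W V : Y.Opens} (hW : IsAffineOpen W) (hV : IsAffineOpen V) (h : V ≤ W) {N : Type u}
    [AddCommGroup N] [Module (SA f V) N] {D₁ D₂ : SA f V →+ N} (h₁ : Leib (RingHom.id _) D₁)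
    (h₂ : Leib (RingHom.id _) D₂) (e : ∀ x, D₁ (resA f h x) = D₂ (resA f h x)) : D₁ = D₂ := by
  let _ := (resA f h).toRingHom.toAlgebra
  have : Algebra.Etale (SA f W) (SA f V) := etale_res f hW hV h
  exact leib_unique (B := SA f W) h₁ h₂ e

/-- A Leibniz map killing `A` is a derivation. -/
noncomputable def toDer {B M : Type u} [CommRing B] [Algebra A B] [AddCommGroup M] [Module A M] [Module B M]
    [IsScalarTower A B M] (D : B →+ M) (hD : Leib (RingHom.id _) D) (h0 : ∀ a : A, D (algebraMap A B a) = 0) :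
    Derivation A B M :=
  Derivation.mk'
    { toFun := D
      map_add' := D.map_add
      map_smul' := fun a x => by
        rw [Algebra.smul_def, hD, h0, smul_zero, add_zero, RingHom.id_apply, RingHom.id_apply, algebraMap_smul] }
    fun a b => hD a b

theorem toDer_apply {B M : Type u} [CommRing B] [Algebra A B] [AddCommGroup M] [Module A M] [Module B M]
    [IsScalarTower A B M] (D : B →+ M) (hD : Leib (RingHom.id _) D) (h0 : ∀ a : A, D (algebraMap A B a) = 0) (x : B) :
    toDer D hD h0 x = D x := rfl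

theorem leib_der {B M : Type u} [CommRing B] [Algebra A B] [AddCommGroup M] [Module A M] [Module B M]
    (D : Derivation A B M) : Leib (RingHom.id B) (D : B →ₗ[A] M).toAddMonoidHom := fun a b => D.leibniz a b

theorem exists_der0 {W V : Y.Opens} (hW : IsAffineOpen W) (hV : IsAffineOpen V) (h : V ≤ W)
    (D : Derivation A (SA f W) (SA f W)) :
    ∃ D' : Derivation A (SA f V) (SA f V), Ext0 f h D D' := by
  obtain ⟨D', h1, h2⟩ := exists_ext f hW hV h (resA f h).toRingHom.toAddMonoidHom (fun a m => map_mul (resA f h) a m)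
    (D : SA f W →ₗ[A] SA f W).toAddMonoidHom (leib_der D)
  refine ⟨toDer D' h1 fun a => ?_, fun x => h2 x⟩
  have h3 := h2 (algebraMap A (SA f W) a)
  rw [(resA f h).commutes] at h3
  refine h3.trans ?_
  change resA f h (D (algebraMap A (SA f W) a)) = 0
  rw [Derivation.map_algebraMap, map_zero]

theorem der0_unique {W V : Y.Opens} (hW : IsAffineOpen W) (hV : IsAffineOpen V) (h : V ≤ W)
    {D₁ D₂ : Derivation A (SA f V) (SA f V)} (e : ∀ x, D₁ (resA f h x) = D₂ (resA f h x)) : D₁ = D₂ := by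
  have := ext_unique f hW hV h (leib_der D₁) (leib_der D₂) e
  ext x
  exact DFunLike.congr_fun this x

theorem exists_der1 {W V : Y.Opens} (hW : IsAffineOpen W) (hV : IsAffineOpen V) (h : V ≤ W)
    (D : Derivation A (SA f W) (SA f W ⧸ KS f K W)) :
    ∃ D' : Derivation A (SA f V) (SA f V ⧸ KS f K V), ∀ x, D' (resA f h x) = q f K h (D x) := by
  obtain ⟨D', h1, h2⟩ := exists_ext f hW hV h (q f K h).toAddMonoidHom (q_smul f K h)
    (D : SA f W →ₗ[A] _).toAddMonoidHom (leib_der D)
  refine ⟨toDer D' h1 fun a => ?_, fun x => h2 x⟩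
  have h3 := h2 (algebraMap A (SA f W) a)
  rw [(resA f h).commutes] at h3
  refine h3.trans ?_
  change q f K h (D (algebraMap A (SA f W) a)) = 0
  rw [Derivation.map_algebraMap, map_zero]

theorem der1_unique {W V : Y.Opens} (hW : IsAffineOpen W) (hV : IsAffineOpen V) (h : V ≤ W)
    {D₁ D₂ : Derivation A (SA f V) (SA f V ⧸ KS f K V)} (e : ∀ x, D₁ (resA f h x) = D₂ (resA f h x)) :
    D₁ = D₂ := by
  have := ext_unique f hW hV h (leib_der D₁) (leib_der D₂) e
  ext x
  exact DFunLike.congr_fun this x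

end K103.T1
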