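import Groth.Agent.Deform.K103.T1Flat
import Groth.Agent.Deform.K103.T1Ext
import Mathlib.RingTheory.Derivation.Basic
import Mathlib.Algebra.DualNumber
import Mathlib.RingTheory.Nilpotent.Basic

/-! # The algebra attached to a twisted derivation -/

set_option autoImplicit false
universe u

namespace K103.T1

/-- The data of piece (G): a square-zero extension with a derivation identifying its kernel with an ideal. -/
structure Dat (A' A : Type u) [CommRing A'] [CommRing A] where
  π : A' →+* A
  K : Ideal A
  δ : A' →+ A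
  hπ : Function.Surjective π
  sq : ∀ x y, π x = 0 → π y = 0 → x * y = 0
  leib : ∀ x y, δ (x * y) = π x * δ y + π y * δ x
  inj : ∀ x, π x = 0 → δ x = 0 → x = 0
  mem : ∀ x, π x = 0 → δ x ∈ K
  ex : ∀ a ∈ K, ∃ x, π x = 0 ∧ δ x = a

variable {A' A : Type u} [CommRing A'] [CommRing A] (d : Dat A' A)

namespace Dat

/-- `K · B` -/
abbrev KB (B : Type u) [CommRing B] [Algebra A B] : Ideal B := d.K.map (algebraMap A B)

/-- A derivation of `B` modulo `K B`, extending `δ` modulo `K`. -/
structure TD (B : Type u) [CommRing B] [Algebra A B] where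
  D : B →+ B ⧸ d.KB B
  leib : Leib (RingHom.id B) D
  alg : ∀ x : A', D (algebraMap A B (d.π x)) = Ideal.Quotient.mk _ (algebraMap A B (d.δ x))

variable {d}

namespace TD

variable {B C E : Type u} [CommRing B] [Algebra A B] [CommRing C] [Algebra A C] [CommRing E] [Algebra A E]

theorem leib' (t : d.TD B) (a b : B) :
    t.D (a * b) = Ideal.Quotient.mk _ a * t.D b + Ideal.Quotient.mk _ b * t.D a := t.leib a b

theorem ext' {t t' : d.TD B} (h : t.D = t'.D) : t = t' := by
  cases t; cases t'; cases h; rfl

/-- The ring of pairs `(a, b)` with `b = D a` modulo `K B`. -/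
def ring (t : d.TD B) : Subring (DualNumber B) where
  carrier := {z | Ideal.Quotient.mk (d.KB B) z.snd = t.D z.fst}
  mul_mem' {x y} hx hy := by
    simp only [Set.mem_ofPred_eq, TrivSqZeroExt.fst_mul, DualNumber.snd_mul] at hx hy ⊢
    rw [map_add, map_mul, map_mul, hx, hy, t.leib']
    ring
  one_mem' := by
    simp only [Set.mem_ofPred_eq, TrivSqZeroExt.fst_one, TrivSqZeroExt.snd_one, map_zero]
    exact t.leib.one.symm
  add_mem' {x y} hx hy := by
    simp only [Set.mem_ofPred_eq, TrivSqZeroExt.fst_add, TrivSqZeroExt.snd_add, map_add] at hx hy ⊢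
    rw [hx, hy]
  zero_mem' := by
    simp only [Set.mem_ofPred_eq, TrivSqZeroExt.fst_zero, TrivSqZeroExt.snd_zero, map_zero]
  neg_mem' {x} hx := by
    simp only [Set.mem_ofPred_eq, TrivSqZeroExt.fst_neg, TrivSqZeroExt.snd_neg, map_neg] at hx ⊢
    rw [hx]

theorem mem_ring (t : d.TD B) (z : DualNumber B) :
    z ∈ t.ring ↔ Ideal.Quotient.mk (d.KB B) z.snd = t.D z.fst := Iff.rfl

/-- The element `(a, b)`. -/
def pair (t : d.TD B) (a b : B) (h : Ideal.Quotient.mk (d.KB B) b = t.D a) : t.ring :=
  ⟨(a, b), h⟩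

/-- The structure homomorphism. -/
def algHom (t : d.TD B) : A' →+* t.ring where
  toFun x := t.pair (algebraMap A B (d.π x)) (algebraMap A B (d.δ x)) (t.alg x).symm
  map_one' := by
    apply Subtype.ext
    refine TrivSqZeroExt.ext ?_ ?_
    · change algebraMap A B (d.π 1) = 1
      rw [map_one, map_one]
    · change algebraMap A B (d.δ 1) = 0
      have h1 := d.leib 1 1
      rw [mul_one, map_one d.π, one_mul] at h1
      rw [left_eq_add.1 h1, map_zero]
  map_mul' x y := by
    apply Subtype.ext
    refine TrivSqZeroExt.ext ?_ ?_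
    · change algebraMap A B (d.π (x * y)) = algebraMap A B (d.π x) * algebraMap A B (d.π y)
      rw [map_mul, map_mul]
    · refine Eq.trans ?_ (DualNumber.snd_mul _ _).symm
      change algebraMap A B (d.δ (x * y)) = algebraMap A B (d.π x) * algebraMap A B (d.δ y) +
        algebraMap A B (d.δ x) * algebraMap A B (d.π y)
      rw [d.leib, map_add, map_mul, map_mul]
      ring
  map_zero' := by
    apply Subtype.ext
    refine TrivSqZeroExt.ext ?_ ?_
    · change algebraMap A B (d.π 0) = 0
      rw [map_zero, map_zero]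
    · change algebraMap A B (d.δ 0) = 0
      rw [map_zero, map_zero]
  map_add' x y := by
    apply Subtype.ext
    refine TrivSqZeroExt.ext ?_ ?_
    · change algebraMap A B (d.π (x + y)) = algebraMap A B (d.π x) + algebraMap A B (d.π y)
      rw [map_add, map_add]
    · change algebraMap A B (d.δ (x + y)) = algebraMap A B (d.δ x) + algebraMap A B (d.δ y)
      rw [map_add, map_add]

/-- The projection `(a, b) ↦ a`. -/
def pr (t : d.TD B) : t.ring →+* B where
  toFun z := z.1.fst
  map_one' := rfl
  map_mul' _ _ := TrivSqZeroExt.fst_mul _ _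
  map_zero' := rfl
  map_add' _ _ := TrivSqZeroExt.fst_add _ _

theorem pr_surjective (t : d.TD B) : Function.Surjective t.pr := by
  intro a
  obtain ⟨b, hb⟩ := Ideal.Quotient.mk_surjective (t.D a)
  exact ⟨t.pair a b hb, rfl⟩

theorem pr_algHom (t : d.TD B) (x : A') : t.pr (t.algHom x) = algebraMap A B (d.π x) := rfl

theorem ker_pr (t : d.TD B) : RingHom.ker t.pr = (RingHom.ker d.π).map t.algHom := by
  apply le_antisymm
  · intro z hz
    have h0 : z.1.fst = 0 := hz
    have h1 : z.1.snd ∈ d.KB B := by
      rw [← Ideal.Quotient.eq_zero_iff_mem]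
      refine (z.2 : Ideal.Quotient.mk (d.KB B) z.1.snd = t.D z.1.fst).trans ?_
      rw [h0, map_zero]
    have key : ∀ b ∈ d.KB B, ∀ z : t.ring, z.1.fst = 0 → z.1.snd = b →
        z ∈ (RingHom.ker d.π).map t.algHom := by
      intro b hb
      rw [KB, Ideal.map, ← Ideal.submodule_span_eq] at hb
      have hmk : ∀ b ∈ Submodule.span B ((algebraMap A B) '' (d.K : Set A)),
          Ideal.Quotient.mk (d.KB B) b = t.D 0 := by
        intro b hb
        rw [map_zero, Ideal.Quotient.eq_zero_iff_mem]
        exact hb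
      induction hb using Submodule.span_induction with
      | mem b hb =>
        obtain ⟨a, ha, rfl⟩ := hb
        obtain ⟨x, hx, rfl⟩ := d.ex a ha
        intro z hz hz'
        have : z = t.algHom x := by
          apply Subtype.ext
          refine TrivSqZeroExt.ext ?_ ?_
          · rw [hz]
            change 0 = algebraMap A B (d.π x)
            rw [hx, map_zero]
          · exact hz'
        rw [this]
        exact Ideal.mem_map_of_mem _ hx
      | zero =>
        intro z hz hz'
        have : z = 0 := Subtype.ext (TrivSqZeroExt.ext hz hz')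
        rw [this]
        exact Ideal.zero_mem _
      | add a b ha hb h1 h2 =>
        intro z hz hz'
        have e : z = t.pair 0 a (hmk a ha) + t.pair 0 b (hmk b hb) := by
          apply Subtype.ext
          refine TrivSqZeroExt.ext ?_ ?_
          · rw [hz]
            change 0 = (0 : B) + 0
            rw [add_zero]
          · rw [hz']
            rfl
        rw [e]
        exact Ideal.add_mem _ (h1 _ rfl rfl) (h2 _ rfl rfl)
      | smul c b hb h1 =>
        intro z hz hz'
        obtain ⟨c', hc'⟩ := t.pr_surjective c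
        have e : z = c' * t.pair 0 b (hmk b hb) := by
          apply Subtype.ext
          refine TrivSqZeroExt.ext ?_ ?_
          · rw [hz]
            change 0 = c'.1.fst * (0 : B)
            rw [mul_zero]
          · rw [hz']
            refine Eq.trans ?_ (DualNumber.snd_mul _ _).symm
            change c • b = c'.1.fst * b + c'.1.snd * 0
            rw [mul_zero, add_zero, ← hc']
            rfl
        rw [e]
        exact Ideal.mul_mem_left _ _ (h1 _ rfl rfl)
    exact key _ h1 z h0 rfl
  · rw [Ideal.map_le_iff_le_comap]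
    intro x hx
    rw [Ideal.mem_comap, RingHom.mem_ker, pr_algHom, RingHom.mem_ker.1 hx, map_zero]

theorem ker_pr_nilpotent (t : d.TD B) : IsNilpotent (RingHom.ker t.pr) := by
  refine ⟨2, ?_⟩
  rw [pow_two, Ideal.zero_eq_bot, eq_bot_iff, Ideal.mul_le]
  intro x hx y hy
  have hx' : x.1.fst = 0 := hx
  have hy' : y.1.fst = 0 := hy
  rw [Ideal.mem_bot]
  apply Subtype.ext
  refine TrivSqZeroExt.ext ?_ ?_
  · change x.1.fst * y.1.fst = 0
    rw [hx', zero_mul]
  · refine (DualNumber.snd_mul _ _).trans ?_
    change x.1.fst * y.1.snd + x.1.snd * y.1.fst = 0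
    rw [hx', hy', zero_mul, mul_zero, add_zero]

theorem flat (t : d.TD B) [Module.Flat A B] : t.algHom.Flat := by
  let _ : Algebra A' t.ring := t.algHom.toAlgebra
  let s : t.ring →+ B :=
    { toFun := fun z => z.1.snd
      map_zero' := rfl
      map_add' := fun x y => rfl }
  have h : Module.Flat A' t.ring := flat_of d.π d.hπ d.sq t.pr t.pr_surjective (fun x => rfl) t.ker_pr d.δ d.leib
    d.inj s fun x r hx => by
      refine (DualNumber.snd_mul _ _).trans ?_
      change algebraMap A B (d.π x) * r.1.snd + algebraMap A B (d.δ x) * r.1.fst = _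
      rw [hx, map_zero, zero_mul, zero_add]
      rfl
  exact h

/-- The transition homomorphisms. -/
def tr {t : d.TD B} {t' : d.TD C} (r : B →ₐ[A] C) (κ : Derivation A C C)
    (h : ∀ x y, t.D x = Ideal.Quotient.mk _ y → t'.D (r x) = Ideal.Quotient.mk _ (r y + κ (r x))) :
    t.ring →+* t'.ring where
  toFun z := t'.pair (r z.1.fst) (r z.1.snd + κ (r z.1.fst)) (h _ _ z.2.symm).symm
  map_one' := by
    apply Subtype.ext
    refine TrivSqZeroExt.ext ?_ ?_
    · exact map_one r
    · change r 0 + κ (r 1) = 0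
      rw [map_zero, map_one, Derivation.map_one_eq_zero, add_zero]
  map_mul' x y := by
    apply Subtype.ext
    refine TrivSqZeroExt.ext ?_ ?_
    · exact map_mul r _ _
    · refine Eq.trans ?_ (DualNumber.snd_mul _ _).symm
      change r (x.1 * y.1).snd + κ (r (x.1.fst * y.1.fst)) =
        r x.1.fst * (r y.1.snd + κ (r y.1.fst)) + (r x.1.snd + κ (r x.1.fst)) * r y.1.fst
      rw [DualNumber.snd_mul, map_add, map_mul, map_mul, map_mul, Derivation.leibniz, smul_eq_mul, smul_eq_mul]
      ring
  map_zero' := by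
    apply Subtype.ext
    refine TrivSqZeroExt.ext ?_ ?_
    · exact map_zero r
    · change r 0 + κ (r 0) = 0
      rw [map_zero, map_zero, add_zero]
  map_add' x y := by
    apply Subtype.ext
    refine TrivSqZeroExt.ext ?_ ?_
    · exact map_add r _ _
    · change r (x.1.snd + y.1.snd) + κ (r (x.1.fst + y.1.fst)) =
        r x.1.snd + κ (r x.1.fst) + (r y.1.snd + κ (r y.1.fst))
      rw [map_add, map_add, map_add]
      abel

theorem tr_algHom {t : d.TD B} {t' : d.TD C} (r : B →ₐ[A] C) (κ : Derivation A C C)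
    (h : ∀ x y, t.D x = Ideal.Quotient.mk _ y → t'.D (r x) = Ideal.Quotient.mk _ (r y + κ (r x))) :
    (tr r κ h).comp t.algHom = t'.algHom := by
  refine RingHom.ext fun x => ?_
  apply Subtype.ext
  refine TrivSqZeroExt.ext ?_ ?_
  · exact r.commutes _
  · change r (algebraMap A B (d.δ x)) + κ (r (algebraMap A B (d.π x))) = algebraMap A C (d.δ x)
    rw [r.commutes, r.commutes, Derivation.map_algebraMap, add_zero]

theorem pr_tr {t : d.TD B} {t' : d.TD C} (r : B →ₐ[A] C) (κ : Derivation A C C)
    (h : ∀ x y, t.D x = Ideal.Quotient.mk _ y → t'.D (r x) = Ideal.Quotient.mk _ (r y + κ (r x))) :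
    t'.pr.comp (tr r κ h) = r.toRingHom.comp t.pr := rfl

theorem tr_id {t : d.TD B} (r : B →ₐ[A] B) (hr : ∀ x, r x = x) (κ : Derivation A B B) (hκ : ∀ x, κ x = 0)
    (h : ∀ x y, t.D x = Ideal.Quotient.mk _ y → t.D (r x) = Ideal.Quotient.mk _ (r y + κ (r x))) :
    tr r κ h = RingHom.id _ := by
  refine RingHom.ext fun z => ?_
  apply Subtype.ext
  refine TrivSqZeroExt.ext ?_ ?_
  · exact hr _
  · change r z.1.snd + κ (r z.1.fst) = z.1.snd
    rw [hr, hκ, add_zero]

theorem tr_comp {t : d.TD B} {t' : d.TD C} {t'' : d.TD E} (r : B →ₐ[A] C) (κ : Derivation A C C)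
    (h : ∀ x y, t.D x = Ideal.Quotient.mk _ y → t'.D (r x) = Ideal.Quotient.mk _ (r y + κ (r x)))
    (r' : C →ₐ[A] E) (κ' : Derivation A E E)
    (h' : ∀ x y, t'.D x = Ideal.Quotient.mk _ y → t''.D (r' x) = Ideal.Quotient.mk _ (r' y + κ' (r' x)))
    (r'' : B →ₐ[A] E) (κ'' : Derivation A E E)
    (h'' : ∀ x y, t.D x = Ideal.Quotient.mk _ y → t''.D (r'' x) = Ideal.Quotient.mk _ (r'' y + κ'' (r'' x)))
    (hr : ∀ x, r' (r x) = r'' x) (hκ : ∀ x, r' (κ x) + κ' (r' x) = κ'' (r' x)) :
    (tr r' κ' h').comp (tr r κ h) = tr r'' κ'' h'' := by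
  refine RingHom.ext fun z => ?_
  apply Subtype.ext
  refine TrivSqZeroExt.ext ?_ ?_
  · exact hr _
  · change r' (r z.1.snd + κ (r z.1.fst)) + κ' (r' (r z.1.fst)) = r'' z.1.snd + κ'' (r'' z.1.fst)
    rw [map_add, hr, add_assoc, hκ, hr]

end TD

end Dat

end K103.T1
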